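import Mathlib
import Cfsg.Agent.Lib.CharTriple.Above
import Cfsg.Agent.Lib.CharTriple.Central
import Cfsg.Agent.Lib.BlockP.Reduce
import Cfsg.Agent.Lib.Blocks.Local

/-!
# Central characters over an invariant character of a normal `p'`-subgroup

`K` is a normal `p'`-subgroup of `G`, `θ ∈ Irr K` is `G`-invariant, `L ≥ K` is normal with `L/K` a
`p`-group and a `p`-regular element acting trivially on `L/K` lies in `K`. Then the central character
of every `χ ∈ Irr(G | θ)` vanishes modulo `M` at `p`-regular elements outside `K`.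
-/

set_option autoImplicit false

namespace Cfsg.Agent.Lib.CharTriple.FongCore

open Cfsg Module
open Cfsg.Agent.Lib.Char.Basic Cfsg.Agent.Lib.Char.Ortho Cfsg.Agent.Lib.Char.Complete
open Cfsg.Agent.Lib.Char.Conj Cfsg.Agent.Lib.Char.ProjExt Cfsg.Agent.Lib.CharTriple.Hat
open Cfsg.Agent.Lib.CharTriple.Bridge Cfsg.Agent.Lib.CharTriple.Above
open scoped ComplexConjugate

universe u

/-- Class sizes along a surjection. -/
theorem index_centralizer_comp {A B : Type u} [Group A] [Group B] [Finite A] (π : A →* B)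
    (hπ : Function.Surjective π) (a : A) :
    ∃ r : ℕ, (Subgroup.centralizer ({a} : Set A)).index =
        r * (Subgroup.centralizer ({π a} : Set B)).index ∧
      ((∀ k ∈ π.ker, ∀ x : A, k * x = x * k) → r ∣ Nat.card π.ker) := by
  classical
  let C : Subgroup A := Subgroup.centralizer ({a} : Set A)
  let D : Subgroup A := (Subgroup.centralizer ({π a} : Set B)).comap π
  have hCD : C ≤ D := by
    intro y hy
    rw [Subgroup.mem_comap, Subgroup.mem_centralizer_singleton_iff]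
    have h1 : y * a = a * y := Subgroup.mem_centralizer_singleton_iff.mp hy
    rw [← map_mul, ← map_mul, h1]
  refine ⟨C.relIndex D, ?_, ?_⟩
  · have h1 := Subgroup.relIndex_mul_index hCD
    rw [Subgroup.index_comap_of_surjective _ hπ] at h1
    exact h1.symm
  · intro hcen
    have hmem : ∀ y : D, (y : A) * a * (y : A)⁻¹ * a⁻¹ ∈ π.ker := by
      intro y
      have h1 : π y * π a = π a * π y :=
        Subgroup.mem_centralizer_singleton_iff.mp y.2
      rw [MonoidHom.mem_ker, map_mul, map_mul, map_mul, map_inv, map_inv, h1]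
      group
    have hcomm : ∀ u v : π.ker, u * v = v * u := fun u v =>
      Subtype.ext (hcen u u.2 v)
    let f : D →* π.ker :=
      { toFun := fun y => ⟨(y : A) * a * (y : A)⁻¹ * a⁻¹, hmem y⟩
        map_one' := by
          apply Subtype.ext
          simp
        map_mul' := fun u v => by
          apply Subtype.ext
          have h1 := hcen _ (hmem v) (u : A)
          have h2 := hcen _ (hmem v) a
          simp only [Subgroup.coe_mul, mul_inv_rev]
          have h3 : (u : A) * v * a * ((v : A)⁻¹ * (u : A)⁻¹) * a⁻¹ =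
              (u : A) * ((v : A) * a * (v : A)⁻¹ * a⁻¹) * (a * (u : A)⁻¹ * a⁻¹) := by group
          rw [h3, ← h1]
          have h4 : ((v : A) * a * (v : A)⁻¹ * a⁻¹) * ((u : A) * a * (u : A)⁻¹ * a⁻¹) =
              ((u : A) * a * (u : A)⁻¹ * a⁻¹) * ((v : A) * a * (v : A)⁻¹ * a⁻¹) :=
            hcen _ (hmem v) _
          rw [← h4]
          group }
    have hker : f.ker = C.subgroupOf D := by
      ext y
      rw [MonoidHom.mem_ker, Subgroup.mem_subgroupOf, Subgroup.mem_centralizer_singleton_iff]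
      constructor
      · intro h
        have h1 : (y : A) * a * (y : A)⁻¹ * a⁻¹ = 1 := congrArg Subtype.val h
        have h2 : (y : A) * a * (y : A)⁻¹ = a := mul_inv_eq_one.mp h1
        exact mul_inv_eq_iff_eq_mul.mp h2
      · intro h
        apply Subtype.ext
        show (y : A) * a * (y : A)⁻¹ * a⁻¹ = 1
        rw [h]
        group
    have h1 : C.relIndex D = Nat.card f.range := by
      rw [Subgroup.relIndex, ← hker, Subgroup.index_ker]
    rw [h1]
    exact Subgroup.card_subgroup_dvd_card _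

/-- The kernel of `pH` is central. -/
theorem ker_pH_central {Γ : Type u} [Group Γ] {N : Subgroup Γ} {hN : N.Normal} {d : ℕ}
    {X : Representation ℂ N (Fin d → ℂ)} (hX : X.IsIrreducible) :
    ∀ k ∈ (pH hN X).ker, ∀ x : Hat hN X, k * x = x * k := by
  intro k hk x
  obtain ⟨c, hc⟩ := exists_scal_of_pr_eq_one hX k.1 hk
  apply Subtype.ext
  rw [Subgroup.coe_mul, Subgroup.coe_mul, hc]
  exact scal_central c x.1

/-- The order of the kernel of `pH` is prime to `p` if `p` does not divide `d`. -/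
theorem not_dvd_card_ker {Γ : Type u} [Group Γ] [Finite Γ] {N : Subgroup Γ} {hN : N.Normal} {d : ℕ}
    {X : Representation ℂ N (Fin d → ℂ)} (hX : X.IsIrreducible) {p : ℕ} (hp : p.Prime)
    (hd : ¬ p ∣ d) : ¬ p ∣ Nat.card (pH hN X).ker := by
  intro hdvd
  haveI := finite_Hat (hN := hN) hX
  haveI : Fact p.Prime := ⟨hp⟩
  obtain ⟨z, hz⟩ := exists_prime_orderOf_dvd_card' (G := (pH hN X).ker) p hdvd
  apply hd
  rw [← hz]
  apply orderOf_dvd_of_pow_eq_one
  obtain ⟨c, hc⟩ := exists_scal_of_pr_eq_one hX (z : Hat hN X).1 z.2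
  have h1 : LinearMap.det (opOf hN X (z : Hat hN X).1) = 1 := (z : Hat hN X).2
  rw [hc, opOf_scal, LinearMap.det_smul, map_one, mul_one, Module.finrank_fin_fun] at h1
  apply Subtype.ext
  apply Subtype.ext
  have h2 : (z : Hat hN X).1 = scal hN X c := hc
  simp only [Subgroup.coe_pow, Subgroup.coe_one, OneMemClass.coe_one]
  rw [h2, ← map_pow]
  have h3 : c ^ d = 1 := Units.ext (by simpa using h1)
  rw [h3, map_one]

/-- Restriction of an irreducible character over an invariant character. -/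
theorem restrict_of_invariant {G : Type u} [Group G] [Fintype G] {K : Subgroup G} [hK : K.Normal]
    [Fintype K] {χ : G → ℂ} (hχ : IsIrrCharacter G χ) {θ : K → ℂ} (hθ : IsIrrCharacter K θ)
    (hinv : ∀ g : G, conjOn hK g θ = θ) (hne : classInner (fun k : K => χ k) θ ≠ 0) (k : K) :
    χ k = classInner (fun k : K => χ k) θ * θ k := by
  classical
  have hrest := Cfsg.Agent.Lib.Char.Clifford.clifford_restrict hK hχ hθ hne
  have hor : Cfsg.Agent.Lib.Char.Clifford.orbitFinset hK θ = {θ} := by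
    ext ψ
    rw [Cfsg.Agent.Lib.Char.Clifford.mem_orbitFinset, Finset.mem_singleton]
    constructor
    · rintro ⟨g, rfl⟩
      exact hinv g
    · rintro rfl
      exact ⟨1, hinv 1⟩
  rw [hor, Finset.sum_singleton] at hrest
  exact congrFun hrest k

variable {G : Type u} [Group G] [Fintype G]

set_option maxHeartbeats 4000000 in
/-- **The core of Fong's theorem.** -/
theorem centralChar_mem {p : ℕ} [hpf : Fact p.Prime] {M : Ideal AlgInt} (hM : IsPModular p M)
    (K L : Subgroup G) [hK : K.Normal] [hL : L.Normal] [Fintype K] (hKL : K ≤ L)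
    (hKp : ¬ p ∣ Nat.card K) (hLp : ∀ l ∈ L, ∃ k : ℕ, l ^ (p ^ k) ∈ K)
    (hHH : ∀ y : G, ¬ p ∣ orderOf y → (∀ l ∈ L, y * l * y⁻¹ * l⁻¹ ∈ K) → y ∈ K)
    {θ : K → ℂ} (hθ : IsIrrCharacter K θ) (hinv : ∀ g : G, conjOn hK g θ = θ)
    {χ : G → ℂ} (hχ : IsIrrCharacter G χ) (hne : classInner (fun k : K => χ k) θ ≠ 0)
    (x : G) (hxp : ¬ p ∣ orderOf x) (hxK : x ∉ K) : MemLocalIdeal M (centralChar χ x) := by
  classical
  have hp : p.Prime := hpf.out
  obtain ⟨d, X, hX, rfl⟩ := hθ
  haveI := finite_Hat (hN := hK) hX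
  have hsurj := pH_surjective hX hinv
  have hres := restrict_of_invariant hχ ⟨d, X, hX, rfl⟩ hinv hne
  -- the character upstairs on the top subgroup
  have hdK : d ∣ Nat.card K := by
    haveI : X.IsIrreducible := hX
    have h1 := Cfsg.Agent.Lib.Char.Central.finrank_dvd_card (ρ := X)
    rwa [Module.finrank_fin_fun] at h1
  have hpd : ¬ p ∣ d := fun h => hKp (h.trans hdK)
  -- `χ` on `⊤`
  let i : (⊤ : Subgroup G) ≃* G := Subgroup.topEquiv
  have hχ' : IsIrrCharacter (⊤ : Subgroup G) (χ ∘ i) := isIrrCharacter_comp_mulEquiv i hχ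
  have hKtop : K ≤ ⊤ := le_top
  obtain ⟨τ₀, hτ₀, hval₀, he₀⟩ := exists_above (A := ⊤) hKtop hX hinv hχ' hne hres
  -- transport to `Hat`
  let j : Hat hK X ≃* GHat (⊤ : Subgroup G) hK X :=
    (Subgroup.topEquiv.symm).trans (MulEquiv.subgroupCongr (by
      ext x
      simp [GHat]))
  let τ : Hat hK X → ℂ := τ₀ ∘ j
  have hτ : IsIrrCharacter _ τ := isIrrCharacter_comp_mulEquiv j hτ₀
  have hj1 : j 1 = 1 := map_one j
  have hval : ∀ n : NHat hK X, τ n = (((kap hK X hX n)⁻¹ : ℂˣ) : ℂ) * τ 1 := by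
    intro n
    have h1 := hval₀ n
    have h2 : (⟨(n : Hat hK X), hKtop n.2⟩ : GHat (⊤ : Subgroup G) hK X) = j n := rfl
    rw [h2] at h1
    simp only [τ, Function.comp, hj1]
    exact h1
  have he : ∀ a : Hat hK X, χ (pH hK X a) = τ a * LinearMap.trace ℂ _ (opH hK X a) := fun a =>
    he₀ (j a)
  -- the quotient making the preimage of `K` central
  let K₀ : Subgroup (Hat hK X) := (kap hK X hX).ker.map (NHat hK X).subtype
  have hK₀N : K₀ ≤ NHat hK X := Subgroup.map_subtype_le _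
  have hmemK₀ : ∀ n : NHat hK X, (n : Hat hK X) ∈ K₀ ↔ kap hK X hX n = 1 := by
    intro n
    constructor
    · rintro ⟨n', hn', he'⟩
      have : n' = n := Subtype.ext he'
      rw [← this]
      exact hn'
    · intro h
      exact ⟨n, h, rfl⟩
  haveI hK₀n : K₀.Normal := by
    constructor
    intro k hk h
    have hkN : k ∈ NHat hK X := hK₀N hk
    have h3 := (hmemK₀ ⟨k, hkN⟩).mp hk
    have h2 := kap_conj (hN := hK) hX h ⟨k, hkN⟩
    have hm : h * k * h⁻¹ ∈ NHat hK X :=
      (inferInstance : (NHat hK X).Normal).conj_mem k hkN h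
    exact (hmemK₀ ⟨h * k * h⁻¹, hm⟩).mpr (by rw [← h3, ← h2])
  let π₁ : Hat hK X →* Hat hK X ⧸ K₀ := QuotientGroup.mk' K₀
  have hπ₁ : Function.Surjective π₁ := QuotientGroup.mk'_surjective K₀
  have hπ₁ker : π₁.ker = K₀ := QuotientGroup.ker_mk' K₀
  have hτker : ∀ k ∈ π₁.ker, τ k = τ 1 := by
    intro k hk
    rw [hπ₁ker] at hk
    have h1 := hval ⟨k, hK₀N hk⟩
    rw [(hmemK₀ ⟨k, hK₀N hk⟩).mp hk] at h1
    simpa using h1
  obtain ⟨τ', hτ', hτe⟩ := Cfsg.Agent.Lib.Char.Linear.isIrrCharacter_descend π₁ hπ₁ hτ hτker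
  -- the central subgroup and the image of the preimage of `L`
  let Z' : Subgroup (Hat hK X ⧸ K₀) := (NHat hK X).map π₁
  let L' : Subgroup (Hat hK X ⧸ K₀) := (L.comap (pH hK X)).map π₁
  have hZL' : Z' ≤ L' := Subgroup.map_mono (Subgroup.comap_mono hKL)
  haveI hL'n : L'.Normal := Subgroup.Normal.map (hL.comap _) π₁ hπ₁
  have hZ'cen : ∀ z ∈ Z', ∀ w : Hat hK X ⧸ K₀, z * w = w * z := by
    rintro _ ⟨n, hn, rfl⟩ w
    obtain ⟨w, rfl⟩ := hπ₁ w
    rw [← map_mul, ← map_mul]
    have hc : n⁻¹ * (w⁻¹ * n * w) ∈ NHat hK X := by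
      refine (NHat hK X).mul_mem ((NHat hK X).inv_mem hn) ?_
      have := (inferInstance : (NHat hK X).Normal).conj_mem n hn w⁻¹
      simpa using this
    have hval1 : kap hK X hX ⟨n⁻¹ * (w⁻¹ * n * w), hc⟩ = 1 := by
      have h2 : (⟨n⁻¹ * (w⁻¹ * n * w), hc⟩ : NHat hK X) = (⟨n, hn⟩ : NHat hK X)⁻¹ *
          ⟨w⁻¹ * (⟨n, hn⟩ : NHat hK X) * (w⁻¹)⁻¹,
            (inferInstance : (NHat hK X).Normal).conj_mem _ hn w⁻¹⟩ := by
        apply Subtype.ext
        simp
      rw [h2, map_mul, kap_conj, map_inv, inv_mul_cancel]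
    have h3 := (hmemK₀ ⟨n⁻¹ * (w⁻¹ * n * w), hc⟩).mpr hval1
    have h4 : (w * n)⁻¹ * (n * w) = n⁻¹ * (w⁻¹ * n * w) := by group
    have h5 : (w * n)⁻¹ * (n * w) ∈ K₀ := by
      rw [h4]
      exact h3
    exact (QuotientGroup.eq.mpr h5).symm
  obtain ⟨P, Q, hPn, hPL, hQZ, -, hfact, -, -, hprimes⟩ :=
    Cfsg.Agent.Lib.CharTriple.Central.central_split_in L' Z' hZL' hZ'cen
  -- the primes of `P`
  have hprimes' : ∀ r : ℕ, r.Prime → r ∣ Nat.card P → r = p := by
    intro r hr hrP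
    have h1 := hprimes r hr hrP
    have hpg : IsPGroup p (L' ⧸ Z'.subgroupOf L') := by
      intro q
      obtain ⟨⟨_, a, ha, rfl⟩, rfl⟩ := QuotientGroup.mk_surjective q
      obtain ⟨k, hk⟩ := hLp _ ha
      refine ⟨k, ?_⟩
      rw [← QuotientGroup.mk_pow, QuotientGroup.eq_one_iff, Subgroup.mem_subgroupOf]
      refine ⟨a ^ p ^ k, ?_, ?_⟩
      · show pH hK X (a ^ p ^ k) ∈ K
        rw [map_pow]
        exact hk
      · simp
    obtain ⟨n, hn⟩ := IsPGroup.iff_card.mp hpg
    have h2 : Z'.relIndex L' = p ^ n := by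
      rw [Subgroup.relIndex, Subgroup.index, hn]
    rw [h2] at h1
    exact (Nat.prime_dvd_prime_iff_eq hr hp).mp (hr.dvd_of_dvd_pow h1)
  have hPp : IsPGroup p P := by
    apply IsPGroup.of_card (n := (Nat.card P).primeFactorsList.length)
    exact Nat.eq_prime_pow_of_unique_prime_dvd Nat.card_pos.ne' (fun {r} hr h => hprimes' r hr h)
  -- the lift of `x`
  obtain ⟨a, rfl⟩ := hsurj x
  have hno : ∀ w, IsConj (π₁ a) w → w ∉ Subgroup.centralizer (P : Set (Hat hK X ⧸ K₀)) := by
    intro w hw hwc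
    obtain ⟨g', rfl⟩ := isConj_iff.mp hw
    obtain ⟨b, rfl⟩ := hπ₁ g'
    -- `y` is the conjugate of `x`
    let y : G := pH hK X (b * a * b⁻¹)
    have hyconj : y = pH hK X b * pH hK X a * (pH hK X b)⁻¹ := by
      simp [y]
    have hyord : ¬ p ∣ orderOf y := by
      have h1 : orderOf y = orderOf (pH hK X a) := by
        rw [hyconj]
        have h2 := orderOf_injective (MulAut.conj (pH hK X b)).toMonoidHom
          (MulAut.conj (pH hK X b)).injective (pH hK X a)
        simpa using h2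
      rwa [h1]
    have hyK : y ∈ K := by
      apply hHH y hyord
      intro l hl
      obtain ⟨c, rfl⟩ := hsurj l
      have hcL : π₁ c ∈ L' := ⟨c, hl, rfl⟩
      obtain ⟨u, hu, v, hv, huv⟩ := hfact _ hcL
      have h1 : π₁ (b * a * b⁻¹) * π₁ c = π₁ c * π₁ (b * a * b⁻¹) := by
        have h2 : π₁ (b * a * b⁻¹) = π₁ b * π₁ a * (π₁ b)⁻¹ := by
          rw [map_mul, map_mul, map_inv]
        rw [h2, huv]
        have h3 : (π₁ b * π₁ a * (π₁ b)⁻¹) * u = u * (π₁ b * π₁ a * (π₁ b)⁻¹) :=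
          ((Subgroup.mem_centralizer_iff.mp hwc) u hu).symm
        have h4 := hZ'cen v (hQZ hv) (π₁ b * π₁ a * (π₁ b)⁻¹)
        rw [← mul_assoc, h3, mul_assoc, ← h4, ← mul_assoc]
      have h5 : (b * a * b⁻¹) * c * (b * a * b⁻¹)⁻¹ * c⁻¹ ∈ π₁.ker := by
        rw [MonoidHom.mem_ker]
        have h7 : π₁ ((b * a * b⁻¹) * c * (b * a * b⁻¹)⁻¹ * c⁻¹) =
            π₁ (b * a * b⁻¹) * π₁ c * (π₁ (b * a * b⁻¹))⁻¹ * (π₁ c)⁻¹ := by
          rw [map_mul, map_mul, map_mul (π₁) (b * a * b⁻¹) c, map_inv, map_inv]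
        rw [h7, h1]
        group
      rw [hπ₁ker] at h5
      have h6 : pH hK X ((b * a * b⁻¹) * c * (b * a * b⁻¹)⁻¹ * c⁻¹) ∈ K := hK₀N h5
      simpa [y] using h6
    apply hxK
    have h1 := hK.conj_mem y hyK (pH hK X b)⁻¹
    rw [hyconj] at h1
    simpa [mul_assoc] using h1
  have hmain : MemLocalIdeal M (centralChar τ' (π₁ a)) :=
    Cfsg.Agent.Lib.BlockP.Reduce.centralChar_mem_of_no_conj hp hM hτ' P hPn hPp _ hno
  -- back to `τ`
  obtain ⟨r₁, hr₁, -⟩ := index_centralizer_comp π₁ hπ₁ a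
  have h1 : centralChar τ a = (r₁ : ℂ) * centralChar τ' (π₁ a) := by
    have hτa : τ a = τ' (π₁ a) := congrFun hτe a
    have hτ1 : τ 1 = τ' 1 := by
      have := congrFun hτe 1
      simpa using this
    unfold centralChar
    rw [hτa, hτ1, hr₁]
    push_cast
    ring
  have hisprime := Cfsg.Agent.Lib.Blocks.Local.isPrime_of_pModular hM
  have h2 : MemLocalIdeal M (centralChar τ a) := by
    rw [h1]
    exact Cfsg.Agent.Lib.Blocks.Local.memLocalIdeal_mul_left
      (Cfsg.Agent.Lib.Blocks.Local.memLocalRing_natCast _) hmain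
  -- back to `χ`
  obtain ⟨r₂, hr₂, hr₂d⟩ := index_centralizer_comp (pH hK X) hsurj a
  have hr₂dvd := hr₂d (ker_pH_central hX)
  have hpker := not_dvd_card_ker (hN := hK) hX hp hpd
  have hpr₂ : ¬ p ∣ r₂ := fun h => hpker (h.trans hr₂dvd)
  have hr₂0 : (r₂ : ℂ) ≠ 0 := by
    have : r₂ ≠ 0 := by
      rintro rfl
      exact hpr₂ (dvd_zero p)
    exact_mod_cast this
  have hd0 : (d : ℂ) ≠ 0 := by
    have : d ≠ 0 := by
      rintro rfl
      exact hpd (dvd_zero p)
    exact_mod_cast this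
  have hν1 : LinearMap.trace ℂ _ (opH hK X 1) = (d : ℂ) := by
    rw [map_one]
    show LinearMap.trace ℂ (Fin d → ℂ) LinearMap.id = _
    simp
  have hχ1 : χ 1 = τ 1 * d := by
    have := he 1
    rw [map_one, hν1] at this
    exact this
  have hχa := he a
  have hτ10 : τ 1 ≠ 0 := irr_one_ne_zero hτ
  have h3 : centralChar χ (pH hK X a) = centralChar τ a * LinearMap.trace ℂ _ (opH hK X a) *
      ((r₂ * d : ℕ) : ℂ)⁻¹ := by
    unfold centralChar
    rw [hχa, hχ1, hr₂]
    push_cast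
    generalize LinearMap.trace ℂ _ (opH hK X a) = t
    generalize τ 1 = u at hτ10
    generalize τ a = v
    generalize ((Subgroup.centralizer ({pH hK X a} : Set G)).index : ℂ) = w
    field_simp
  rw [h3]
  have hchar : IsIntegral ℤ (LinearMap.trace ℂ _ (opH hK X a)) := by
    let R : Representation ℂ (Hat hK X) (Fin d → ℂ) := opH hK X
    exact Cfsg.Agent.Lib.Char.Eigen.character_isIntegral R a
  apply Cfsg.Agent.Lib.Blocks.Local.memLocalIdeal_mul_right
  · apply Cfsg.Agent.Lib.Blocks.Local.memLocalIdeal_mul_right h2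
    exact Cfsg.Agent.Lib.Blocks.Local.memLocalRing_of_isIntegral hchar
  · apply Cfsg.Agent.Lib.Blocks.Local.memLocalRing_natCast_inv hM
    intro h
    rcases (Nat.Prime.dvd_mul hp).mp h with h | h
    · exact hpr₂ h
    · exact hpd h

end Cfsg.Agent.Lib.CharTriple.FongCore
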