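import Mathlib
import Cfsg.Agent.Lib.CharTriple.FongCore
import Cfsg.Agent.Lib.Blocks.Defect2
import Cfsg.Agent.Lib.BlockT.NormalP
import Cfsg.Agent.Lib.BlockT.Inflate2

/-!
# Fong's theorem: characters over an invariant character of `O_{p'}(G)` form one block
-/

set_option autoImplicit false

namespace Cfsg.Agent.Lib.CharTriple.Fong

open Cfsg Module
open Cfsg.Agent.Lib.Char.Basic Cfsg.Agent.Lib.Char.Ortho Cfsg.Agent.Lib.Char.Complete
open Cfsg.Agent.Lib.Char.Conj Cfsg.Agent.Lib.CharTriple.FongCore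
open Cfsg.Agent.Lib.Blocks.Defect2 Cfsg.Agent.Lib.BlockT.SylowIn
open scoped ComplexConjugate

universe u

variable {G : Type u} [Group G]

/-- A `p`-regular element acting trivially on `L/K` lies in `K`. -/
theorem hh_of_constrained [Finite G] {p : ℕ} [hpf : Fact p.Prime] {K L : Subgroup G} [hK : K.Normal]
    [hL : L.Normal] (hKL : K ≤ L) (hKp : ¬ p ∣ Nat.card K) (hLp : ∀ l ∈ L, ∃ k : ℕ, l ^ (p ^ k) ∈ K)
    {Q : Subgroup G} (hQL : Q ≤ L) (hQp : IsPGroup p Q) (hQS : ¬ p ∣ Q.relIndex L)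
    (hCQ : Subgroup.centralizer (Q : Set G) ≤ L) (y : G) (hy : ¬ p ∣ orderOf y)
    (hyc : ∀ l ∈ L, y * l * y⁻¹ * l⁻¹ ∈ K) : y ∈ K := by
  classical
  have hp : p.Prime := hpf.out
  -- `L = K Q`
  have hLQ : L ≤ K ⊔ Q := by
    have hpg : IsPGroup p (L ⧸ K.subgroupOf L) := by
      intro q
      obtain ⟨⟨a, ha⟩, rfl⟩ := QuotientGroup.mk_surjective q
      obtain ⟨k, hk⟩ := hLp a ha
      refine ⟨k, ?_⟩
      rw [← QuotientGroup.mk_pow, QuotientGroup.eq_one_iff, Subgroup.mem_subgroupOf]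
      simpa using hk
    obtain ⟨n, hn⟩ := IsPGroup.iff_card.mp hpg
    have h1 : K.relIndex L = p ^ n := by
      rw [Subgroup.relIndex, Subgroup.index, hn]
    have h2 : (K ⊔ Q).relIndex L ∣ K.relIndex L := Subgroup.relIndex_dvd_of_le_left L le_sup_left
    have h3 : (K ⊔ Q).relIndex L ∣ Q.relIndex L := Subgroup.relIndex_dvd_of_le_left L le_sup_right
    rw [h1] at h2
    obtain ⟨j, -, hj⟩ := (Nat.dvd_prime_pow hp).mp h2
    have hj0 : j = 0 := by
      by_contra hne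
      apply hQS
      refine dvd_trans ?_ h3
      rw [hj]
      exact dvd_pow_self p hne
    rw [hj0, pow_zero] at hj
    exact Subgroup.relIndex_eq_one.mp hj
  have hKQ : ∀ a ∈ K, a ∈ Q → a = 1 := by
    intro a haK haQ
    obtain ⟨k, hk⟩ := hQp ⟨a, haQ⟩
    have h1 : a ^ p ^ k = 1 := congrArg Subtype.val hk
    have h2 : orderOf a ∣ p ^ k := orderOf_dvd_of_pow_eq_one h1
    have h3 : orderOf (⟨a, haK⟩ : K) ∣ Nat.card K := orderOf_dvd_natCard _
    rw [Subgroup.orderOf_mk] at h3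
    have h4 : Nat.Coprime (p ^ k) (Nat.card K) :=
      Nat.Coprime.pow_left k ((Nat.Prime.coprime_iff_not_dvd hp).mpr hKp)
    have h5 := Nat.Coprime.eq_one_of_dvd (Nat.Coprime.coprime_dvd_left h2 h4) h3
    exact orderOf_eq_one_iff.mp h5
  -- the Sylow subgroups
  have hQ' : IsPGroup p (Q.subgroupOf L) :=
    IsPGroup.of_equiv hQp (Subgroup.subgroupOfEquivOfLe hQL).symm
  let S : Sylow p L := hQ'.toSylow hQS
  let φ : MulAut L := MulAut.conjNormal y
  obtain ⟨l, hl⟩ := MulAction.exists_smul_eq L S (φ • S)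
  have hSl : ∀ u ∈ Q, ∃ v ∈ Q, y * u * y⁻¹ = l * v * (l : G)⁻¹ := by
    intro u hu
    have h1 : φ ⟨u, hQL hu⟩ ∈ ((φ • S : Sylow p L) : Subgroup L) := by
      rw [Sylow.pointwise_smul_def]
      exact ⟨⟨u, hQL hu⟩, hu, rfl⟩
    rw [← hl, Sylow.smul_def, Sylow.pointwise_smul_def] at h1
    obtain ⟨v, hv, hve⟩ := h1
    refine ⟨v, hv, ?_⟩
    have h2 := congrArg Subtype.val hve
    simpa [φ] using h2.symm
  obtain ⟨k₀, hk₀, q₀, hq₀, hlq⟩ : ∃ k₀ ∈ K, ∃ q₀ ∈ Q, (l : G) = k₀ * q₀ := by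
    have h1 : (l : G) ∈ ((K ⊔ Q : Subgroup G) : Set G) := hLQ l.2
    rw [Subgroup.normal_mul] at h1
    obtain ⟨a, ha, b, hb, hab⟩ := h1
    exact ⟨a, ha, b, hb, hab.symm⟩
  have hz : k₀⁻¹ * y ∈ Subgroup.centralizer (Q : Set G) := by
    rw [Subgroup.mem_centralizer_iff]
    intro u hu
    obtain ⟨v, hv, hve⟩ := hSl u hu
    -- `z u z⁻¹ ∈ Q`
    have h1 : (k₀⁻¹ * y) * u * (k₀⁻¹ * y)⁻¹ = q₀ * v * q₀⁻¹ := by
      have h2 : (k₀⁻¹ * y) * u * (k₀⁻¹ * y)⁻¹ = k₀⁻¹ * (y * u * y⁻¹) * k₀ := by group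
      rw [h2, hve, hlq]
      group
    have h3 : (k₀⁻¹ * y) * u * (k₀⁻¹ * y)⁻¹ * u⁻¹ ∈ Q := by
      rw [h1]
      exact Q.mul_mem (Q.mul_mem (Q.mul_mem hq₀ hv) (Q.inv_mem hq₀)) (Q.inv_mem hu)
    have h4 : (k₀⁻¹ * y) * u * (k₀⁻¹ * y)⁻¹ * u⁻¹ ∈ K := by
      have h5 := hyc u (hQL hu)
      have h6 : (k₀⁻¹ * y) * u * (k₀⁻¹ * y)⁻¹ * u⁻¹ =
          k₀⁻¹ * (y * u * y⁻¹ * u⁻¹) * (u * k₀ * u⁻¹) := by group
      rw [h6]
      exact K.mul_mem (K.mul_mem (K.inv_mem hk₀) h5) (hK.conj_mem k₀ hk₀ u)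
    have h7 := hKQ _ h4 h3
    have h8 : (k₀⁻¹ * y) * u * (k₀⁻¹ * y)⁻¹ = u := mul_inv_eq_one.mp h7
    exact (mul_inv_eq_iff_eq_mul.mp h8).symm
  have hyL : y ∈ L := by
    have h1 := L.mul_mem (hKL hk₀) (hCQ hz)
    simpa using h1
  obtain ⟨k, hk⟩ := hLp y hyL
  have hcop : Nat.Coprime (p ^ k) (orderOf y) :=
    Nat.Coprime.pow_left k ((Nat.Prime.coprime_iff_not_dvd hp).mpr hy)
  have h1 : y ∈ Subgroup.zpowers (y ^ p ^ k) := by
    have h2 := Nat.gcd_eq_gcd_ab (p ^ k) (orderOf y)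
    rw [Nat.Coprime.gcd_eq_one hcop] at h2
    refine ⟨Nat.gcdA (p ^ k) (orderOf y), ?_⟩
    show (y ^ p ^ k) ^ Nat.gcdA (p ^ k) (orderOf y) = y
    have h3 : y ^ ((1 : ℕ) : ℤ) = y := by simp
    conv_rhs => rw [← h3, h2, zpow_add, zpow_mul, zpow_mul, zpow_natCast, zpow_natCast,
      pow_orderOf_eq_one, one_zpow, mul_one]
  exact (Subgroup.zpowers_le.mpr hk) h1


variable [Fintype G]

/-- **Fong's theorem**, in terms of `L/K`. -/
theorem fong_main {p : ℕ} [hpf : Fact p.Prime] {M : Ideal AlgInt} (hM : IsPModular p M)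
    (K L : Subgroup G) [hK : K.Normal] [hL : L.Normal] [Fintype K] (hKL : K ≤ L)
    (hKp : ¬ p ∣ Nat.card K) (hLp : ∀ l ∈ L, ∃ k : ℕ, l ^ (p ^ k) ∈ K)
    (hHH : ∀ y : G, ¬ p ∣ orderOf y → (∀ l ∈ L, y * l * y⁻¹ * l⁻¹ ∈ K) → y ∈ K)
    (θ : IrrCharacter K) (hinv : ∀ g : G, conjOn hK g (θ : K → ℂ) = (θ : K → ℂ))
    (B : Set (IrrCharacter G))
    (hB : ∀ χ : IrrCharacter G, χ ∈ B ↔ classInner (fun k : K => (χ : G → ℂ) k) (θ : K → ℂ) ≠ 0) :
    IsPBlock M B ∧ (∀ S : Sylow p G, IsDefectGroup p M B (S : Subgroup G)) ∧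
      ∀ D : Subgroup G, IsDefectGroup p M B D → ∃ P : Sylow p G, D = (P : Subgroup G) := by
  classical
  have hp : p.Prime := hpf.out
  haveI hMprime := Cfsg.Agent.Lib.Blocks.Local.isPrime_of_pModular hM
  -- the ratio on `K`
  have hratio : ∀ χ ∈ B, ∀ k : K, (χ : G → ℂ) k / (χ : G → ℂ) 1 = (θ : K → ℂ) k / (θ : K → ℂ) 1 := by
    intro χ hχ k
    have hne := (hB χ).mp hχ
    have h1 := restrict_of_invariant χ.2 θ.2 hinv hne k
    have h2 := restrict_of_invariant χ.2 θ.2 hinv hne 1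
    simp only [Subgroup.coe_one] at h2
    rw [h1, h2, mul_div_mul_left _ _ hne]
  have hout : ∀ χ ∈ B, ∀ x : G, ¬ p ∣ orderOf x → x ∉ K → MemLocalIdeal M (centralChar (χ : G → ℂ) x) :=
    fun χ hχ x hx hxK => centralChar_mem hM K L hKL hKp hLp hHH θ.2 hinv χ.2 ((hB χ).mp hχ) x hx hxK
  have hsame : ∀ χ ∈ B, ∀ χ' ∈ B, SameBlock M (χ : G → ℂ) (χ' : G → ℂ) := by
    intro χ hχ χ' hχ'
    apply Cfsg.Agent.Lib.BlockT.Inflate2.sameBlock_of_regular hM
    intro g hg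
    by_cases hgK : g ∈ K
    · have h1 : centralChar (χ : G → ℂ) g = centralChar (χ' : G → ℂ) g := by
        unfold centralChar
        have h2 := hratio χ hχ ⟨g, hgK⟩
        have h3 := hratio χ' hχ' ⟨g, hgK⟩
        simp only at h2 h3
        rw [mul_div_assoc, mul_div_assoc, h2, h3]
      rw [h1, sub_self]
      exact Cfsg.Agent.Lib.Blocks.Local.memLocalIdeal_zero
    · exact Cfsg.Agent.Lib.Blocks.Local.memLocalIdeal_sub (hout χ hχ g hg hgK) (hout χ' hχ' g hg hgK)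
  obtain ⟨χ₀, hχ₀⟩ := Cfsg.Agent.Lib.BlockT.NormalP.exists_irr_over (G := G) (N := K) θ
  have hχ₀B : χ₀ ∈ B := (hB χ₀).mpr hχ₀
  have hblock : IsPBlock M B := by
    refine ⟨χ₀, ?_⟩
    ext χ
    constructor
    · intro hχ
      exact hsame χ₀ hχ₀B χ hχ
    · intro hχ
      exact (hB χ).mpr (Cfsg.Agent.Lib.BlockT.NormalP.constituent_of_sameBlock hK M hM hKp hχ hχ₀)
  have hdefect : ∀ D : Subgroup G, IsDefectGroup p M B D → ∃ P : Sylow p G, D = (P : Subgroup G) := by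
    intro D hD
    obtain ⟨g, hg, hS⟩ := isDefectGroup_isSylowIn hD
    have hgp : ¬ p ∣ orderOf g := by
      intro h
      apply hg.2.1
      rw [Cfsg.Agent.Lib.BlockT.Inflate2.blockCoeff_eq_zero hM hblock h]
      exact Cfsg.Agent.Lib.Blocks.Local.memLocalIdeal_zero
    have hgK : g ∈ K := by
      by_contra h
      exact hg.2.2 χ₀ hχ₀B (hout χ₀ hχ₀B g hgp h)
    -- the index is prime to `p`
    have hidx : ¬ p ∣ (Subgroup.centralizer ({g} : Set G)).index := by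
      intro h
      apply hg.2.2 χ₀ hχ₀B
      have h1 : centralChar (χ₀ : G → ℂ) g =
          ((Subgroup.centralizer ({g} : Set G)).index : ℂ) *
            ((θ : K → ℂ) ⟨g, hgK⟩ / (θ : K → ℂ) 1) := by
        unfold centralChar
        rw [mul_div_assoc]
        congr 1
        exact hratio χ₀ hχ₀B ⟨g, hgK⟩
      rw [h1]
      apply Cfsg.Agent.Lib.Blocks.Local.memLocalIdeal_mul_right
      · exact (Cfsg.Agent.Lib.Blocks.Local.natCast_memLocalIdeal_iff hM _).mpr h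
      · obtain ⟨d, X, hX, hXe⟩ := θ.2
        have hdK : d ∣ Nat.card K := by
          haveI : X.IsIrreducible := hX
          have h1 := Cfsg.Agent.Lib.Char.Central.finrank_dvd_card (ρ := X)
          rwa [Module.finrank_fin_fun] at h1
        have hpd : ¬ p ∣ d := fun h => hKp (h.trans hdK)
        have hθ1 : (θ : K → ℂ) 1 = (d : ℂ) := by
          rw [← hXe, Representation.char_one, Module.finrank_fin_fun]
        rw [hθ1, div_eq_mul_inv]
        apply Cfsg.Agent.Lib.Blocks.Local.memLocalRing_mul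
        · exact Cfsg.Agent.Lib.Blocks.Local.memLocalRing_of_isIntegral
            (Cfsg.Agent.Lib.BlockT.NormalP.isIntegral_irr θ _)
        · exact Cfsg.Agent.Lib.Blocks.Local.memLocalRing_natCast_inv hM hpd
    obtain ⟨S, rfl⟩ := hS
    have hDp : IsPGroup p ((S : Subgroup (Subgroup.centralizer ({g} : Set G))).map
        (Subgroup.centralizer ({g} : Set G)).subtype) := S.2.map _
    have hle : (S : Subgroup (Subgroup.centralizer ({g} : Set G))).map
        (Subgroup.centralizer ({g} : Set G)).subtype ≤ Subgroup.centralizer ({g} : Set G) :=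
      Subgroup.map_subtype_le _
    have hnot : ¬ p ∣ ((S : Subgroup (Subgroup.centralizer ({g} : Set G))).map
        (Subgroup.centralizer ({g} : Set G)).subtype).index := by
      have h0 : ((S : Subgroup (Subgroup.centralizer ({g} : Set G))).map
          (Subgroup.centralizer ({g} : Set G)).subtype).subgroupOf
            (Subgroup.centralizer ({g} : Set G)) = S :=
        Subgroup.comap_map_eq_self_of_injective (Subgroup.centralizer ({g} : Set G)).subtype_injective _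
      rw [← Subgroup.relIndex_mul_index hle, Subgroup.relIndex, h0]
      intro h
      rcases (Nat.Prime.dvd_mul hp).mp h with h | h
      · exact S.not_dvd_index h
      · exact hidx h
    exact ⟨hDp.toSylow hnot, rfl⟩
  refine ⟨hblock, ?_, hdefect⟩
  intro S
  obtain ⟨D, hD⟩ := exists_isDefectGroup (p := p) hblock
  obtain ⟨P, rfl⟩ := hdefect D hD
  obtain ⟨x, hx⟩ := MulAction.exists_smul_eq G P S
  have h1 := isDefectGroup_conj hD x
  rw [← hx, Sylow.smul_def, Sylow.pointwise_smul_def]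
  exact h1

end Cfsg.Agent.Lib.CharTriple.Fong
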